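import Cfsg.Agent.Components.FStar
import Cfsg.Agent.LocalStructure.Cores

/-!
# The Thompson-Wielandt theorem for two conjugate maximal subgroups

The key observation: if `R = O^q(A)` is non-trivial, where `A` is normal in `M` and subnormal in `N`,
then everything that normalises all `N`-conjugates of `R` lies in the core of `M ⊓ N` in `N`.
-/

set_option autoImplicit false

namespace CfsgLib.ThompsonWielandt

open Cfsg Subgroup
open CfsgLib.LocalStructure (pResOf pResOf_le pResOf_eq_bot map_pResOf)

universe u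

variable {G : Type u} [Group G]

theorem le_normalizer_of_subgroupOf {H X S : Subgroup G} (hX : X ≤ H) (hS : S ≤ H)
    (h : X.subgroupOf H ≤ normalizer ((S.subgroupOf H : Subgroup H) : Set H)) :
    X ≤ normalizer (S : Set G) := by
  have h2 := (map_mono (f := H.subtype) h).trans (le_normalizer_map _)
  rwa [map_subgroupOf_eq_of_le hX, map_subgroupOf_eq_of_le hS] at h2

/-- The layer normalises every subnormal subgroup. -/
theorem layer_le_normalizer {S : Subgroup G} (hS : S.IsSubnormal) :
    layer G ≤ normalizer (S : Set G) := by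
  refine sSup_le fun L hL => ?_
  rcases CfsgLib.Components.IsComponent.le_or_commutator_eq_bot hL hS with h | h
  · exact h.trans le_normalizer
  · exact (commutator_eq_bot_iff_le_centralizer.mp h).trans (centralizer_le_normalizer _)

/-- The layer of a subgroup, in the ambient group. -/
def layerOf (H : Subgroup G) : Subgroup G := (layer H).map H.subtype

theorem layerOf_le (H : Subgroup G) : layerOf H ≤ H := map_subtype_le _

theorem le_normalizer_layerOf (H : Subgroup G) : H ≤ normalizer (layerOf H : Set G) :=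
  le_normalizer.trans (CfsgLib.Components.normalizer_le_normalizer_map_subtype H (layer H))

theorem layerOf_le_normalizer {H S : Subgroup G} (hS : S ≤ H) (hsn : (S.subgroupOf H).IsSubnormal) :
    layerOf H ≤ normalizer (S : Set G) := by
  refine le_normalizer_of_subgroupOf (layerOf_le H) hS ?_
  rw [layerOf, subgroupOf, comap_map_eq_self_of_injective H.subtype_injective]
  exact layer_le_normalizer hsn

/-- Components of `H` lying in `K ≤ H` are components of `K`. -/
theorem layerOf_le_layerOf_of_le {H K : Subgroup G} (hKH : K ≤ H) (h : layerOf H ≤ K) :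
    layerOf H ≤ layerOf K := by
  rw [layerOf, map_le_iff_le_comap]
  refine sSup_le fun L hL => map_le_iff_le_comap.mp ?_
  have hL0 : L.map H.subtype ≤ K :=
    (map_mono (CfsgLib.Components.IsComponent.le_layer hL)).trans h
  have hcomp : IsComponent ((L.map H.subtype).subgroupOf K) := by
    refine ⟨?_, CfsgLib.Components.isQuasisimple_congr
      ((L.equivMapOfInjective H.subtype H.subtype_injective).trans
        (subgroupOfEquivOfLe hL0).symm) hL.2⟩
    have hsn := hL.1.comap (inclusion hKH)
    convert hsn using 1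
    ext x
    simp only [mem_subgroupOf, mem_map, coe_subtype, mem_comap]
    exact ⟨fun ⟨y, hy, hyx⟩ => (Subtype.ext hyx : y = inclusion hKH x) ▸ hy,
      fun hx => ⟨_, hx, rfl⟩⟩
  rw [← map_subgroupOf_eq_of_le hL0]
  exact map_mono (CfsgLib.Components.IsComponent.le_layer hcomp)

/-- The layer of a subnormal subgroup lies in the layer. -/
theorem layerOf_le_layerOf_of_subnormal {H K : Subgroup G} (hKH : K ≤ H)
    (hsn : (K.subgroupOf H).IsSubnormal) : layerOf K ≤ layerOf H := by
  have h1 := map_mono (f := H.subtype) (CfsgLib.Components.layer_map_subtype_le hsn)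
  rw [Subgroup.map_map] at h1
  rw [layerOf, ← CfsgLib.Components.map_layer_equiv (subgroupOfEquivOfLe hKH), Subgroup.map_map]
  exact h1

theorem map_pCore_equiv {G' : Type*} [Group G'] (q : ℕ) (e : G ≃* G') :
    (pCore q G).map e.toMonoidHom = pCore q G' := by
  refine le_antisymm ?_ ?_
  · haveI : ((pCore q G).map e.toMonoidHom).Normal :=
      (LocalStructure.pCore_normal).map _ e.surjective
    exact LocalStructure.le_pCore (LocalStructure.pCore_isPGroup.map _)
  · intro x hx
    refine ⟨e.symm x, ?_, e.apply_symm_apply x⟩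
    haveI : ((pCore q G').map e.symm.toMonoidHom).Normal :=
      (LocalStructure.pCore_normal).map _ e.symm.surjective
    exact LocalStructure.le_pCore (N := (pCore q G').map e.symm.toMonoidHom)
      (LocalStructure.pCore_isPGroup.map _) ⟨x, hx, rfl⟩

theorem card_layerOf_congr {H K : Subgroup G} (e : H ≃* K) :
    Nat.card (layerOf H) = Nat.card (layerOf K) := by
  rw [layerOf, layerOf, card_map_of_injective H.subtype_injective,
    card_map_of_injective K.subtype_injective, ← CfsgLib.Components.map_layer_equiv e]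
  exact (card_map_of_injective e.injective).symm

theorem card_pCoreOf_congr {H K : Subgroup G} (q : ℕ) (e : H ≃* K) :
    Nat.card (pCoreOf q H) = Nat.card (pCoreOf q K) := by
  rw [pCoreOf, pCoreOf, card_map_of_injective H.subtype_injective,
    card_map_of_injective K.subtype_injective, ← map_pCore_equiv q e]
  exact (card_map_of_injective e.injective).symm

/-- `O_q(H)` normalises `O^q(S)` for every subnormal subgroup `S` of `H`. -/
theorem pCoreOf_le_normalizer_pResOf [Finite G] {q : ℕ} [Fact q.Prime] {H S : Subgroup G}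
    (hS : S ≤ H) (hsn : (S.subgroupOf H).IsSubnormal) :
    pCoreOf q H ≤ normalizer (pResOf q S : Set G) := by
  have h := (map_mono (f := H.subtype) (LocalStructure.pCore_le_normalizer_pResOf (p := q) hsn)).trans
    (le_normalizer_map _)
  rwa [map_pResOf, map_subgroupOf_eq_of_le hS] at h

/-- `F*(G) = O_p(G)` if there are no components and `O_q(G) = 1` for the primes `q ≠ p`. -/
theorem generalizedFitting_eq_pCore [Finite G] (p : ℕ) [Fact p.Prime] (hL : layer G = ⊥)
    (h : ∀ q : ℕ, q.Prime → q ≠ p → pCore q G = ⊥) :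
    generalizedFittingSubgroup G = pCore p G := by
  refine le_antisymm ?_ ((CfsgLib.Components.pCore_le_fittingSubgroup p).trans le_sup_right)
  rw [generalizedFittingSubgroup, hL, bot_sup_eq]
  refine sSup_le fun N ⟨hN, hnil⟩ => LocalStructure.le_pCore ?_
  refine IsPGroup.of_card (n := (Nat.card N).primeFactorsList.length)
    (Nat.eq_prime_pow_of_unique_prime_dvd Nat.card_pos.ne' fun {q} hq hdvd => ?_)
  by_contra hqp
  haveI : Fact q.Prime := ⟨hq⟩
  obtain ⟨S⟩ : Nonempty (Sylow q N) := inferInstance
  have hSn : (S : Subgroup N).Normal := Sylow.normal_of_normalizerCondition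
    Group.normalizerCondition_of_isNilpotent S
  have hSc : (S : Subgroup N).Characteristic := Sylow.characteristic_of_normal S hSn
  haveI : ((S : Subgroup N).map N.subtype).Normal := normalizer_eq_top_iff.mp
    (top_unique ((normalizer_eq_top_iff.mpr hN).ge.trans
      (CfsgLib.Components.normalizer_le_normalizer_map_subtype _ _)))
  have hb := LocalStructure.le_pCore (S.2.map N.subtype)
  rw [h q hq hqp, le_bot_iff] at hb
  exact S.ne_bot_of_dvd_card hdvd ((map_eq_bot_iff_of_injective _ N.subtype_injective).mp hb)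

/-- One half of the configuration: `A` is non-trivial, normalised by `M` and contained in `B`, which is
the core of `M ⊓ N` in `N`; non-trivial subgroups of `M` normalised by `M` have normaliser `M`. -/
structure Half (M N A B : Subgroup G) : Prop where
  normalizer_le : ∀ K : Subgroup G, K ≤ M → K ≠ ⊥ → M ≤ normalizer (K : Set G) →
    normalizer (K : Set G) ≤ M
  A_norm : M ≤ normalizer (A : Set G)
  A_ne : A ≠ ⊥
  A_le : A ≤ B
  B_le : B ≤ M ⊓ N
  B_norm : N ≤ normalizer (B : Set G)
  B_max : ∀ x ∈ N, (∀ n ∈ N, n * x * n⁻¹ ∈ M) → x ∈ B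

namespace Half

variable {M N A B A' B' : Subgroup G} (h : Half M N A B)
include h

theorem subnormal : (A.subgroupOf N).IsSubnormal := by
  refine IsSubnormal.step _ (B.subgroupOf N) (comap_mono h.A_le) ?_ ?_
  · exact ((normal_subgroupOf_iff_le_normalizer (h.B_le.trans inf_le_right)).2 h.B_norm).isSubnormal
  · refine (normal_subgroupOf_iff_le_normalizer (comap_mono h.A_le)).2 ?_
    intro x hx
    rw [mem_normalizer_iff]
    intro y
    exact mem_normalizer_iff.1 (h.A_norm (h.B_le (show (x : G) ∈ B from hx)).1) (y : G)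

theorem conj_le {n : G} (hn : n ∈ N) : A.map (MulAut.conj n).toMonoidHom ≤ B := by
  rintro _ ⟨a, ha, rfl⟩
  exact (mem_normalizer_iff.1 (h.B_norm hn) a).1 (h.A_le ha)

theorem conj_subnormal {n : G} (hn : n ∈ N) :
    ((A.map (MulAut.conj n).toMonoidHom).subgroupOf (M ⊓ N)).IsSubnormal := by
  have h1 := (h.subnormal.map (f := (MulAut.conj (⟨n, hn⟩ : N)).toMonoidHom)
    (MulAut.conj (⟨n, hn⟩ : N)).surjective).comap (inclusion (inf_le_right : M ⊓ N ≤ N))
  convert h1 using 1
  ext x
  simp only [mem_subgroupOf, mem_map, mem_comap, MulEquiv.toMonoidHom_eq_coe, MonoidHom.coe_coe,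
    MulAut.conj_apply]
  constructor
  · rintro ⟨a, ha, hax⟩
    exact ⟨⟨a, (h.B_le (h.A_le ha)).2⟩, ha, Subtype.ext (by simpa using hax)⟩
  · rintro ⟨a, ha, hax⟩
    exact ⟨(a : G), ha, by simpa using congrArg Subtype.val hax⟩

/-- A subgroup of `N` normalising all conjugates under `N` of a non-trivial subgroup of `M`
normalised by `M` lies in `B`. -/
theorem le_core {K X : Subgroup G} (hK : K ≤ M) (hK1 : K ≠ ⊥) (hKn : M ≤ normalizer (K : Set G))
    (hXN : X ≤ N)
    (hX : ∀ n ∈ N, X ≤ normalizer ((K.map (MulAut.conj n).toMonoidHom : Subgroup G) : Set G)) :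
    X ≤ B := by
  intro x hx
  refine h.B_max x (hXN hx) fun n hn => h.normalizer_le K hK hK1 hKn ?_
  have hx' := hX n⁻¹ (inv_mem hn) hx
  rw [mem_normalizer_iff] at hx' ⊢
  intro k
  have := hx' (n⁻¹ * k * n)
  simp only [mem_map, MulEquiv.toMonoidHom_eq_coe, MonoidHom.coe_coe, MulAut.conj_apply,
    inv_inv] at this
  constructor
  · intro hk
    obtain ⟨a, ha, hax⟩ := this.1 ⟨k, hk, rfl⟩
    have : n * x * n⁻¹ * k * (n * x * n⁻¹)⁻¹ = a := by
      calc n * x * n⁻¹ * k * (n * x * n⁻¹)⁻¹ = n * (x * (n⁻¹ * k * n) * x⁻¹) * n⁻¹ := by group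
        _ = n * (n⁻¹ * a * n) * n⁻¹ := by rw [hax]
        _ = a := by group
    rwa [this]
  · intro hk
    obtain ⟨a, ha, hax⟩ := this.2 ⟨_, hk, by group⟩
    have : k = a := by
      calc k = n * (n⁻¹ * k * n) * n⁻¹ := by group
        _ = n * (n⁻¹ * a * n) * n⁻¹ := by rw [hax]
        _ = a := by group
    rwa [this]

theorem layerOf_le : layerOf N ≤ M := by
  refine (layerOf_le_normalizer (h.A_le.trans (h.B_le.trans inf_le_right)) h.subnormal).trans ?_
  exact h.normalizer_le A (h.A_le.trans (h.B_le.trans inf_le_left)) h.A_ne h.A_norm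

variable [Finite G]

/-- Neither `M` nor `N` has components. -/
theorem layerOf_eq_bot (h' : Half N M A' B') (hne : M ≠ N) (e : M ≃* N) : layerOf M = ⊥ := by
  have hD : layerOf M ≤ M ⊓ N := le_inf (ThompsonWielandt.layerOf_le M) h'.layerOf_le
  have hAM : A ≤ M := h.A_le.trans (h.B_le.trans inf_le_left)
  have hB : layerOf M ≤ B :=
    h.le_core hAM h.A_ne h.A_norm (hD.trans inf_le_right) fun n hn =>
      (layerOf_le_layerOf_of_le inf_le_left hD).trans
        (layerOf_le_normalizer ((h.conj_le hn).trans h.B_le) (h.conj_subnormal hn))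
  have hle : layerOf M ≤ layerOf N :=
    (layerOf_le_layerOf_of_le (h.B_le.trans inf_le_left) hB).trans
      (layerOf_le_layerOf_of_subnormal (h.B_le.trans inf_le_right)
        ((normal_subgroupOf_iff_le_normalizer (h.B_le.trans inf_le_right)).2 h.B_norm).isSubnormal)
  have heq : layerOf M = layerOf N := eq_of_le_of_card_ge hle (card_layerOf_congr e).ge
  by_contra hX
  refine hne (le_antisymm ?_ ?_)
  · exact (le_normalizer_layerOf M).trans
      (heq ▸ h'.normalizer_le (layerOf N) (ThompsonWielandt.layerOf_le N) (heq ▸ hX)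
        (le_normalizer_layerOf N))
  · have := h.normalizer_le (layerOf M) (ThompsonWielandt.layerOf_le M) hX (le_normalizer_layerOf M)
    rw [heq] at this
    exact (le_normalizer_layerOf N).trans this

/-- The main point: if `A` is not a `q`-group then `O_q(M) = 1`. -/
theorem pCoreOf_eq_bot (h' : Half N M A' B') (hne : M ≠ N) (e : M ≃* N) {q : ℕ} [Fact q.Prime]
    (hA : ¬ IsPGroup q A) : pCoreOf q M = ⊥ := by
  by_contra hM1
  have hX1 : pCoreOf q N ≠ ⊥ := fun hb => hM1 (by
    rw [eq_bot_iff_card, card_pCoreOf_congr q e, hb, card_bot])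
  have hAM : A ≤ M := h.A_le.trans (h.B_le.trans inf_le_left)
  have hR1 : pResOf q A ≠ ⊥ := fun hb => hA (pResOf_eq_bot.1 hb)
  have hRM : pResOf q A ≤ M := (pResOf_le A).trans hAM
  have hRn : M ≤ normalizer (pResOf q A : Set G) :=
    h.A_norm.trans (LocalStructure.normalizer_le_normalizer_pResOf A)
  have hXM : pCoreOf q N ≤ M :=
    (pCoreOf_le_normalizer_pResOf (h.A_le.trans (h.B_le.trans inf_le_right)) h.subnormal).trans
      (h.normalizer_le _ hRM hR1 hRn)
  have hYB : pCoreOf q (M ⊓ N) ≤ B := by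
    refine h.le_core hRM hR1 hRn ((LocalStructure.pCoreOf_le _).trans inf_le_right) fun n hn => ?_
    rw [map_pResOf]
    exact pCoreOf_le_normalizer_pResOf ((h.conj_le hn).trans h.B_le) (h.conj_subnormal hn)
  have hYX : pCoreOf q (M ⊓ N) ≤ pCoreOf q N := by
    refine (LocalStructure.le_pCoreOf (p := q) hYB (h.B_le.trans (LocalStructure.le_normalizer_pCoreOf _))
      (LocalStructure.pCoreOf_isPGroup _)).trans ?_
    exact LocalStructure.le_pCoreOf ((LocalStructure.pCoreOf_le B).trans (h.B_le.trans inf_le_right))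
      (h.B_norm.trans (LocalStructure.normalizer_le_normalizer_pCoreOf B))
      (LocalStructure.pCoreOf_isPGroup _)
  have hXn : normalizer (pCoreOf q N : Set G) ≤ N :=
    h'.normalizer_le _ (LocalStructure.pCoreOf_le N) hX1 (LocalStructure.le_normalizer_pCoreOf N)
  set P : Subgroup G := pCoreOf q M ⊔ pCoreOf q N with hPdef
  have hXMn : pCoreOf q N ≤ normalizer (pCoreOf q M : Set G) :=
    hXM.trans (LocalStructure.le_normalizer_pCoreOf M)
  have hP : IsPGroup q P := by
    rw [hPdef, sup_comm]
    exact (LocalStructure.pCoreOf_isPGroup N).to_sup_of_normal_right'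
      (LocalStructure.pCoreOf_isPGroup M) hXMn
  have hPn : M ⊓ N ≤ normalizer (P : Set G) := by
    intro x hx
    have h1 := LocalStructure.le_normalizer_pCoreOf (p := q) M hx.1
    have h2 := LocalStructure.le_normalizer_pCoreOf (p := q) N hx.2
    rw [mem_normalizer_iff_map_conj_eq] at h1 h2 ⊢
    rw [hPdef, Subgroup.map_sup, h1, h2]
  have hPM : P ≤ M := sup_le (LocalStructure.pCoreOf_le M) hXM
  have hPN : P ⊓ N ≤ pCoreOf q N := by
    refine le_trans ?_ hYX
    refine LocalStructure.le_pCoreOf (inf_le_inf_right N hPM) ?_ hP.to_inf_left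
    exact le_trans (le_inf hPn (inf_le_right.trans le_normalizer)) inf_normalizer_le_normalizer_inf
  have hPX : P ≤ pCoreOf q N := by
    by_contra hlt
    have hXP : pCoreOf q N ≤ P := le_sup_right
    haveI : Group.IsNilpotent P := hP.isNilpotent
    have hnc := Group.normalizerCondition_of_isNilpotent (G := P) ((pCoreOf q N).subgroupOf P)
      (lt_top_iff_ne_top.2 fun ht => hlt (subgroupOf_eq_top.1 ht))
    refine hnc.2 fun x hx => ?_
    have hxN : (x : G) ∈ normalizer (pCoreOf q N : Set G) := by
      have hz := le_normalizer_of_subgroupOf (H := P) (X := zpowers (x : G))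
        (zpowers_le.2 x.2) hXP (fun y hy => ?_)
      · exact hz (mem_zpowers _)
      · obtain ⟨k, hk⟩ := mem_zpowers_iff.1 hy
        have : y = x ^ k := Subtype.ext (by simpa using hk.symm)
        rw [this]; exact zpow_mem hx k
    exact hPN ⟨x.2, hXn hxN⟩
  have heq : pCoreOf q M = pCoreOf q N :=
    eq_of_le_of_card_ge (le_sup_left.trans hPX) (card_pCoreOf_congr q e).ge
  refine hne (le_antisymm ?_ ?_)
  · rw [← heq] at hXn
    exact (LocalStructure.le_normalizer_pCoreOf M).trans hXn
  · have hMn := h.normalizer_le _ (LocalStructure.pCoreOf_le M) hM1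
      (LocalStructure.le_normalizer_pCoreOf (p := q) M)
    rw [heq] at hMn
    exact (LocalStructure.le_normalizer_pCoreOf N).trans hMn

theorem M_ne_bot : M ≠ ⊥ := fun hb =>
  h.A_ne (le_bot_iff.1 (hb ▸ h.A_le.trans (h.B_le.trans inf_le_left)))

end Half

theorem layer_eq_bot_of_layerOf {H : Subgroup G} (h : layerOf H = ⊥) : layer H = ⊥ :=
  (map_eq_bot_iff_of_injective _ H.subtype_injective).mp h

theorem pCore_eq_bot_of_pCoreOf {H : Subgroup G} {q : ℕ} (h : pCoreOf q H = ⊥) : pCore q H = ⊥ :=
  (map_eq_bot_iff_of_injective _ H.subtype_injective).mp h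

/-- The Thompson-Wielandt theorem. -/
theorem main [Finite G] {M N A A' B B' : Subgroup G} (h : Half M N A B) (h' : Half N M A' B')
    (hne : M ≠ N) (e : M ≃* N) :
    ∃ p : ℕ, p.Prime ∧ IsPGroup p ↥(A ⊔ A') ∧
      generalizedFittingSubgroup ↥M = pCore p ↥M ∧ generalizedFittingSubgroup ↥B' = pCore p ↥B' ∧
      generalizedFittingSubgroup ↥N = pCore p ↥N ∧ generalizedFittingSubgroup ↥B = pCore p ↥B := by
  have hEM := h.layerOf_eq_bot h' hne e
  have hEN := h'.layerOf_eq_bot h hne.symm e.symm
  obtain ⟨p, hp, hp1⟩ : ∃ p : ℕ, p.Prime ∧ pCoreOf p M ≠ ⊥ := by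
    by_contra hall
    push Not at hall
    haveI := Fact.mk Nat.prime_two
    have hF : generalizedFittingSubgroup M = pCore 2 M :=
      generalizedFitting_eq_pCore 2 (layer_eq_bot_of_layerOf hEM)
        fun q hq _ => pCore_eq_bot_of_pCoreOf (hall q hq)
    rw [pCore_eq_bot_of_pCoreOf (hall 2 Nat.prime_two)] at hF
    have hc := CfsgLib.Components.centralizer_generalizedFitting_le_self (G := M)
    rw [hF] at hc
    refine h.M_ne_bot ((Subgroup.eq_bot_iff_forall _).2 fun x hx => ?_)
    have : (⟨x, hx⟩ : M) ∈ (⊥ : Subgroup M) := hc (mem_centralizer_iff.2 fun y hy => by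
      rw [SetLike.mem_coe, mem_bot] at hy; simp [hy])
    exact congrArg Subtype.val (mem_bot.1 this)
  haveI := Fact.mk hp
  have hA : IsPGroup p A := by_contra fun hn => hp1 (h.pCoreOf_eq_bot h' hne e hn)
  have hN1 : pCoreOf p N ≠ ⊥ := fun hb => hp1 (by
    rw [eq_bot_iff_card, card_pCoreOf_congr p e, hb, card_bot])
  have hA' : IsPGroup p A' := by_contra fun hn => hN1 (h'.pCoreOf_eq_bot h hne.symm e.symm hn)
  have hqA : ∀ {X : Subgroup G}, X ≠ ⊥ → IsPGroup p X → ∀ q : ℕ, q.Prime → q ≠ p →
      ¬ IsPGroup q X := fun hX hpX q hq hqp hqX => hX (disjoint_self.1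
        (haveI := Fact.mk hq; IsPGroup.disjoint_of_ne q p hqp _ _ hqX hpX))
  have hqM : ∀ q : ℕ, q.Prime → q ≠ p → pCoreOf q M = ⊥ := fun q hq hqp =>
    haveI := Fact.mk hq; h.pCoreOf_eq_bot h' hne e (hqA h.A_ne hA q hq hqp)
  have hqN : ∀ q : ℕ, q.Prime → q ≠ p → pCoreOf q N = ⊥ := fun q hq hqp =>
    haveI := Fact.mk hq; h'.pCoreOf_eq_bot h hne.symm e.symm (hqA h'.A_ne hA' q hq hqp)
  have key : ∀ H C : Subgroup G, C ≤ H → H ≤ normalizer (C : Set G) → layerOf H = ⊥ →
      (∀ q : ℕ, q.Prime → q ≠ p → pCoreOf q H = ⊥) →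
      generalizedFittingSubgroup C = pCore p C := by
    intro H C hCH hn hE hq
    refine generalizedFitting_eq_pCore p (layer_eq_bot_of_layerOf (le_bot_iff.1 (hE ▸
      layerOf_le_layerOf_of_subnormal hCH ((normal_subgroupOf_iff_le_normalizer hCH).2 hn).isSubnormal)))
      fun q hqp hqne => pCore_eq_bot_of_pCoreOf (le_bot_iff.1 (hq q hqp hqne ▸ ?_))
    exact LocalStructure.le_pCoreOf ((LocalStructure.pCoreOf_le C).trans hCH)
      (hn.trans (LocalStructure.normalizer_le_normalizer_pCoreOf C))
      (LocalStructure.pCoreOf_isPGroup C)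
  have hA'M : A' ≤ M := h'.A_le.trans (h'.B_le.trans inf_le_right)
  refine ⟨p, hp, ?_, key M M le_rfl le_normalizer hEM hqM,
    key M B' (h'.B_le.trans inf_le_right) h'.B_norm hEM hqM, key N N le_rfl le_normalizer hEN hqN,
    key N B (h.B_le.trans inf_le_right) h.B_norm hEN hqN⟩
  rw [sup_comm]
  exact hA'.to_sup_of_normal_right' hA (hA'M.trans h.A_norm)

end CfsgLib.ThompsonWielandt
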